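import Groth.Agent.GrpSchLib.LangGroup
import Mathlib.AlgebraicGeometry.ResidueField
import Mathlib.FieldTheory.Finite.Basic
import Mathlib.FieldTheory.IsAlgClosed.AlgebraicClosure

/-! Lang: pseudo-torsors under connected groups over finite fields have points. -/

set_option autoImplicit false
universe u
open CategoryTheory MonoidalCategory CartesianMonoidalCategory MonObj GrpObj AlgebraicGeometry

namespace Groth.Agent.StkMassLib

open WithConv Groth.Agent.GrpSchLib.AffineHopf Groth.Agent.GrpSchLib.Lang

/-- A nonempty pseudo-torsor under an affine smooth connected group over a finite field has a rational point. -/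
theorem exists_point (k : Type u) [Field k] [Finite k]
    (G : Over (Spec (CommRingCat.of k))) [GrpObj G] [IsAffine G.left] [Smooth G.hom] [ConnectedSpace G.left]
    (X : Over (Spec (CommRingCat.of k))) [Nonempty ↥X.left] (a : AlgGrp.Action G X)
    (hX : IsIso (CartesianMonoidalCategory.lift a.act (CartesianMonoidalCategory.snd G X))) :
    Nonempty (𝟙_ (Over (Spec (CommRingCat.of k))) ⟶ X) := by
  classical
  haveI := Fintype.ofFinite k
  obtain ⟨A, _, _, _, _, e, _⟩ := exists_domain_hopf G
  let q := Fintype.card k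
  have hq : 2 ≤ q := Fintype.one_lt_card
  let f : A →ₐ[k] A := FiniteField.frobeniusAlgHom k A
  have hf : ∀ a, f a = a ^ q := fun a => rfl
  -- a point of X over an algebraically closed field
  obtain ⟨x⟩ := ‹Nonempty ↥X.left›
  obtain ⟨s, hs⟩ := Spec.map_surjective (X.left.fromSpecResidueField x ≫ X.hom)
  letI : Algebra k (X.left.residueField x) := s.hom.toAlgebra
  let K := AlgebraicClosure (X.left.residueField x)
  letI : Algebra k K := ((algebraMap (X.left.residueField x) K).comp s.hom).toAlgebra
  let y₀ : sp k K ⟶ X := Over.homMk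
    (Spec.map (CommRingCat.ofHom (algebraMap (X.left.residueField x) K)) ≫ X.left.fromSpecResidueField x) (by
      refine (Category.assoc _ _ _).trans ((congrArg (_ ≫ ·) hs.symm).trans ?_)
      exact (Spec.map_comp _ _).symm)
  let φ : K →ₐ[k] K := FiniteField.frobeniusAlgHom k K
  -- the translation between y₀ and its conjugate
  obtain ⟨p, hp⟩ : ∃ p : sp k K ⟶ G ⊗ X, p ≫ CartesianMonoidalCategory.lift a.act (snd G X) =
      CartesianMonoidalCategory.lift (spMap φ ≫ y₀) y₀ :=
    ⟨CartesianMonoidalCategory.lift (spMap φ ≫ y₀) y₀ ≫ CategoryTheory.inv (CartesianMonoidalCategory.lift a.act (snd G X)), by rw [Category.assoc, IsIso.inv_hom_id, Category.comp_id]⟩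
  have hp1 : p ≫ a.act = spMap φ ≫ y₀ := by
    have := congrArg (· ≫ fst X X) hp
    simpa using this
  have hp2 : p ≫ snd G X = y₀ := by
    have := congrArg (· ≫ snd X X) hp
    simpa using this
  let g : sp k K ⟶ G := p ≫ fst G X
  have hg : CartesianMonoidalCategory.lift g y₀ ≫ a.act = spMap φ ≫ y₀ := by
    rw [← hp1]
    congr 1
    apply CartesianMonoidalCategory.hom_ext
    · simp [g]
    · simp [hp2]
  -- Lang
  obtain ⟨u₀, hu₀⟩ := exists_eq_spMap (g ≫ e.inv)
  obtain ⟨w₀, hw₀⟩ := exists_comp_langMap_eq f hq hf (u₀.comp (HopfAlgebra.antipodeAlgHom k A))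
  let w := spMap w₀
  have hw : w * (spMap φ ≫ w)⁻¹ = (spMap u₀)⁻¹ := by
    have h1 : spMap φ ≫ w = w ≫ spMap f := by
      rw [spMap_comp, spMap_comp]
      exact congrArg spMap (AlgHom.ext fun z => (map_pow w₀ z q).symm)
    have h2 : spMap (langMap f) = 𝟙 (sp k A) * (spMap f)⁻¹ := by
      rw [spMap_inv, ← spMap_id, spMap_mul]
      rfl
    rw [h1, ← GrpObj.comp_inv, spMap_inv u₀, ← hw₀, ← spMap_comp, h2, MonObj.comp_mul, Category.comp_id]
  let h : sp k K ⟶ G := w⁻¹ ≫ e.hom
  have hh : (spMap φ ≫ h) * g = h := by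
    have hg' : g = spMap u₀ ≫ e.hom := by rw [← hu₀]; simp
    rw [hg']
    simp only [h]
    rw [← Category.assoc, ← MonObj.mul_comp]
    congr 1
    rw [GrpObj.comp_inv, ← _root_.inv_inv (spMap u₀), ← hw, _root_.mul_inv_rev, _root_.inv_inv, inv_mul_cancel_left]
  let y := CartesianMonoidalCategory.lift h y₀ ≫ a.act
  have hact : ∀ (b c : sp k K ⟶ G) (z : sp k K ⟶ X), CartesianMonoidalCategory.lift (b * c) z ≫ a.act =
      CartesianMonoidalCategory.lift b (CartesianMonoidalCategory.lift c z ≫ a.act) ≫ a.act := by
    intro b c z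
    have := congrArg (CartesianMonoidalCategory.lift (CartesianMonoidalCategory.lift b c) z ≫ ·) a.mul_act
    simp only [lift_whiskerRight_assoc, lift_lift_associator_hom_assoc, lift_whiskerLeft_assoc] at this
    exact this
  have hy : spMap φ ≫ y = y := by
    simp only [y]
    rw [comp_lift_assoc, ← hg, ← hact, hh]
  -- descend the fixed point
  let z := Scheme.SpecToEquivOfField K X.left y.left
  have hz : Spec.map z.2 ≫ X.left.fromSpecResidueField z.1 = y.left :=
    (Scheme.SpecToEquivOfField K X.left).symm_apply_apply y.left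
  have hzφ : z.2 ≫ CommRingCat.ofHom φ.toRingHom = z.2 := by
    refine Spec.map_injective ((cancel_mono (X.left.fromSpecResidueField z.1)).mp ?_)
    rw [Spec.map_comp, Category.assoc, hz]
    exact congrArg (fun m : sp k K ⟶ X => m.left) hy
  have hfix : ∀ c : K, c ^ q = c → c ∈ Set.range (algebraMap k K) := by
    intro c hc
    by_contra hcon
    let S := insert c (Finset.univ.image (algebraMap k K))
    have hcard : q < S.card := by
      rw [Finset.card_insert_of_notMem (by simpa using hcon),
        Finset.card_image_of_injective _ (algebraMap k K).injective, Finset.card_univ]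
      exact Nat.lt_succ_self _
    have hne : (Polynomial.X ^ q - Polynomial.X : Polynomial K) ≠ 0 := FiniteField.X_pow_card_sub_X_ne_zero K hq
    refine hne (Polynomial.eq_zero_of_natDegree_lt_card_of_eval_eq_zero' _ S (fun d hd => ?_) ?_)
    · rw [Finset.mem_insert, Finset.mem_image] at hd
      rcases hd with rfl | ⟨d, -, rfl⟩
      · simp [hc]
      · simp [← map_pow, q, FiniteField.pow_card]
    · rwa [FiniteField.X_pow_card_sub_X_natDegree_eq K hq]
  choose ψ hψ using fun c => hfix (z.2 c) (congrArg (fun m => m c) hzφ)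
  let ψ' : X.left.residueField z.1 →+* k :=
    { toFun := ψ
      map_one' := (algebraMap k K).injective (by rw [hψ, map_one, map_one])
      map_zero' := (algebraMap k K).injective (by rw [hψ, map_zero, map_zero])
      map_mul' := fun c d => (algebraMap k K).injective (by rw [hψ, map_mul, map_mul, hψ, hψ])
      map_add' := fun c d => (algebraMap k K).injective (by rw [hψ, map_add, map_add, hψ, hψ]) }
  have hψ' : CommRingCat.ofHom ψ' ≫ CommRingCat.ofHom (algebraMap k K) = z.2 := by ext c; exact hψ c
  refine ⟨Over.homMk (Spec.map (CommRingCat.ofHom ψ') ≫ X.left.fromSpecResidueField z.1) ?_⟩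
  obtain ⟨t, ht⟩ := Spec.map_surjective (X.left.fromSpecResidueField z.1 ≫ X.hom)
  refine (Category.assoc _ _ _).trans ((congrArg (_ ≫ ·) ht.symm).trans ?_)
  refine (Spec.map_comp _ _).symm.trans ?_
  show Spec.map _ = 𝟙 _
  rw [← Spec.map_id]
  congr 1
  have h1 : (t ≫ CommRingCat.ofHom ψ') ≫ CommRingCat.ofHom (algebraMap k K) = CommRingCat.ofHom (algebraMap k K) := by
    refine (Category.assoc _ _ _).trans ((congrArg (t ≫ ·) hψ').trans ?_)
    apply Spec.map_injective
    rw [Spec.map_comp, ht, ← Category.assoc, hz]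
    exact Over.w y
  refine CommRingCat.hom_ext (RingHom.ext fun c => (algebraMap k K).injective ?_)
  exact congrArg (fun m => m c) h1

end Groth.Agent.StkMassLib
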