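import Groth.Agent.QuotLib.TrivHom
import Groth.Agent.StkMassLib.Lang
import Mathlib.GroupTheory.GroupAction.Quotient
import Mathlib.CategoryTheory.Endomorphism
import Mathlib.CategoryTheory.FiberedCategory.Fiber
import Mathlib.CategoryTheory.IsomorphismClasses
import Mathlib.Algebra.BigOperators.Field
import Mathlib.Algebra.BigOperators.Finprod
import Mathlib.Tactic.FieldSimp

/-! The fibre of a quotient stack at a base with trivial torsors is the action groupoid. -/

set_option backward.isDefEq.respectTransparency false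
set_option backward.isDefEq.respectTransparency.types false
set_option autoImplicit false

universe u

open CategoryTheory CategoryTheory.Limits MonoidalCategory CartesianMonoidalCategory MonObj GrpObj AlgebraicGeometry

namespace Groth.Agent.StkMassLib

open Groth.Agent.GrpSchLib Groth.Agent.QuotLib AlgSt

variable {S : Scheme.{u}} (K : Precoverage Scheme.{u}) [K.HasIsos] (G : Over S) [GrpObj G] {X : Over S}
  (aX : AlgGrp.Action G X) (T : Over S)

/-- The action of the points of the group on points. -/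
@[instance_reducible] noncomputable def ptsAct : MulAction (T ⟶ G) (T ⟶ X) where
  smul g x := lift g x ≫ aX.act
  one_smul x := act_one aX x
  mul_smul g h x := (act_mul aX g h x).symm

/-- The fibre object of a point. -/
noncomputable def trivF (x : T ⟶ X) : (QuotSt K G aX).p.Fiber T := ⟨triv K G aX x, rfl⟩

variable {K G aX T}

theorem base_eq_id {a b : (QuotSt K G aX).p.Fiber T} (φ : a ⟶ b) :
    φ.1.base = eqToHom (a.2.trans b.2.symm) := by
  have := φ.2
  have h := IsHomLift.fac' (QuotSt K G aX).p (𝟙 T) φ.1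
  exact h.trans (by simp)

/-- Morphisms between fibre objects of points. -/
theorem exists_hom_iff (x x' : T ⟶ X) : ∃ e : (trivF K G aX T x ⟶ trivF K G aX T x') ≃
    {g : T ⟶ G // lift g x' ≫ aX.act = x}, True := by
  let fwd : {g : T ⟶ G // lift g x' ≫ aX.act = x} → (trivF K G aX T x ⟶ trivF K G aX T x') := fun g =>
    have h := (hom_triv_iff (K := K) (aX := aX) (𝟙 T) x x').2 g.1 (by rw [Category.id_comp]; exact g.2)
    ⟨h.choose, IsHomLift.of_fac' _ _ _ rfl rfl (by
      have hb : (QuotSt K G aX).p.map h.choose = 𝟙 T := h.choose_spec.1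
      rw [hb]
      simp; rfl)⟩
  refine ⟨(Equiv.ofBijective fwd ⟨?_, ?_⟩).symm, trivial⟩
  · intro g g' e
    have h := (hom_triv_iff (K := K) (aX := aX) (𝟙 T) x x').2 g.1 (by rw [Category.id_comp]; exact g.2)
    have h' := (hom_triv_iff (K := K) (aX := aX) (𝟙 T) x x').2 g'.1 (by rw [Category.id_comp]; exact g'.2)
    have e1 : h.choose.top = h'.choose.top := congrArg (fun m => QuotObj.Hom.top m) (congrArg Subtype.val e)
    rw [h.choose_spec.2, h'.choose_spec.2] at e1
    have e2 := congrArg (fun m => sec G T ≫ m ≫ fst G T) e1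
    simp only [sec, lift_fst, comp_mul, lift_fst, lift_snd_assoc, Category.id_comp, _root_.one_mul] at e2
    exact Subtype.ext e2
  · intro φ
    have hb : φ.1.base = 𝟙 T := (base_eq_id φ).trans (by simp; rfl)
    obtain ⟨g, hg, ht⟩ := (hom_triv_iff (K := K) (aX := aX) (𝟙 T) x x').1 φ.1 hb
    refine ⟨⟨g, by rw [Category.id_comp] at hg; exact hg⟩, Subtype.ext ?_⟩
    have h := (hom_triv_iff (K := K) (aX := aX) (𝟙 T) x x').2 g hg
    exact QuotObj.hom_ext (h.choose_spec.1.trans hb.symm) (h.choose_spec.2.trans ht.symm)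

noncomputable def homEquiv (x x' : T ⟶ X) :
    (trivF K G aX T x ⟶ trivF K G aX T x') ≃ {g : T ⟶ G // lift g x' ≫ aX.act = x} :=
  (exists_hom_iff x x').choose

theorem isIso_hom {a b : (QuotSt K G aX).p.Fiber T} (φ : a ⟶ b) : IsIso φ := by
  have hb := base_eq_id φ
  have hi : IsIso φ.1 := by
    let I := homLiftIso φ.1 (𝟙 b.1) (eqToIso (b.2.trans a.2.symm)) (by
      refine (congrArg (fun m => eqToHom (b.2.trans a.2.symm : b.1.base = a.1.base) ≫ m) hb).trans ?_
      exact (eqToHom_trans _ _).trans (eqToHom_refl _ _))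
    have hI : I.inv = φ.1 := by
      have := homLift_comp (𝟙 b.1) φ.1 (eqToIso (b.2.trans a.2.symm)).inv
      simp only [Category.comp_id] at this
      exact this ((Category.comp_id _).trans hb.symm)
    rw [← hI]; infer_instance
  have := φ.2
  refine ⟨⟨⟨inv φ.1, IsHomLift.of_fac' _ _ _ b.2 a.2 ?_⟩, Functor.Fiber.hom_ext (IsIso.hom_inv_id φ.1),
    Functor.Fiber.hom_ext (IsIso.inv_hom_id φ.1)⟩⟩
  rw [Functor.map_inv]
  apply IsIso.inv_eq_of_hom_inv_id
  show φ.1.base ≫ _ = _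
  rw [hb]
  simp; rfl

theorem iso_iff (x x' : T ⟶ X) : Nonempty (trivF K G aX T x ≅ trivF K G aX T x') ↔
    ∃ g : T ⟶ G, lift g x' ≫ aX.act = x := by
  constructor
  · rintro ⟨e⟩
    exact ⟨_, (homEquiv x x' e.hom).2⟩
  · rintro ⟨g, hg⟩
    haveI := isIso_hom ((homEquiv (K := K) x x').symm ⟨g, hg⟩)
    exact ⟨asIso ((homEquiv (K := K) x x').symm ⟨g, hg⟩)⟩

noncomputable def autEquiv (x : T ⟶ X) :
    Aut (trivF K G aX T x) ≃ {g : T ⟶ G // lift g x ≫ aX.act = x} :=
  (Equiv.ofBijective (fun e : Aut (trivF K G aX T x) => e.hom)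
    ⟨fun _ _ h => Iso.ext h, fun φ => haveI := isIso_hom φ; ⟨asIso φ, rfl⟩⟩).trans (homEquiv x x)

/-- Fibre objects with a point of the total space are trivial. -/
theorem iso_triv_of_point (a : (QuotSt K G aX).p.Fiber T) (b : T ⟶ a.1.P) (hb : b ≫ a.1.π = eqToHom a.2.symm) :
    Nonempty (trivF K G aX T (b ≫ a.1.φ) ≅ a) := by
  let φ : trivF K G aX T (b ≫ a.1.φ) ⟶ a := ⟨trivHom a.1 b _ rfl, IsHomLift.of_fac' _ _ _ rfl a.2 (by
    show b ≫ a.1.π = _
    rw [hb]; simp)⟩
  haveI := isIso_hom φ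
  exact ⟨asIso φ⟩

/-- The mass formula of an action groupoid. -/
theorem mass (hpt : ∀ a : (QuotSt K G aX).p.Fiber T, ∃ b : T ⟶ a.1.P, b ≫ a.1.π = eqToHom a.2.symm)
    [Finite (T ⟶ G)] [Finite (T ⟶ X)] :
    Finite (Quotient (isIsomorphicSetoid ((QuotSt K G aX).p.Fiber T))) ∧
      (∀ ξ : (QuotSt K G aX).p.Fiber T, Finite (Aut ξ)) ∧
      ∑ᶠ c : Quotient (isIsomorphicSetoid ((QuotSt K G aX).p.Fiber T)), ((Nat.card (Aut c.out) : ℚ))⁻¹ =
        (Nat.card (T ⟶ X) : ℚ) / (Nat.card (T ⟶ G) : ℚ) := by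
  classical
  letI : MulAction (T ⟶ G) (T ⟶ X) := ptsAct G aX T
  let q : MulAction.orbitRel.Quotient (T ⟶ G) (T ⟶ X) →
      Quotient (isIsomorphicSetoid ((QuotSt K G aX).p.Fiber T)) :=
    Quotient.lift (fun x => ⟦trivF K G aX T x⟧) fun x y h => Quotient.sound ((iso_iff x y).2 (by
      obtain ⟨g, hg⟩ := h
      exact ⟨g, hg⟩))
  have hq : Function.Bijective q := by
    refine ⟨fun c d => Quotient.inductionOn₂ c d fun x y h => Quotient.sound ?_, fun c => Quotient.inductionOn c fun a => ?_⟩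
    · obtain ⟨g, hg⟩ := (iso_iff x y).1 (Quotient.exact h)
      exact ⟨g, hg⟩
    · obtain ⟨b, hb⟩ := hpt a
      exact ⟨⟦b ≫ a.1.φ⟧, Quotient.sound (iso_triv_of_point a b hb)⟩
  have hstab : ∀ (ξ : (QuotSt K G aX).p.Fiber T) (x : T ⟶ X), Nonempty (trivF K G aX T x ≅ ξ) →
      Nonempty (Aut ξ ≃ MulAction.stabilizer (T ⟶ G) x) := fun ξ x ⟨e⟩ =>
    ⟨((Aut.autMulEquivOfIso e).symm.toEquiv.trans (autEquiv x)).trans
      { toFun := fun g => ⟨g.1, g.2⟩, invFun := fun g => ⟨g.1, g.2⟩,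
        left_inv := fun _ => rfl, right_inv := fun _ => rfl }⟩
  have hfin : ∀ ξ : (QuotSt K G aX).p.Fiber T, Finite (Aut ξ) := fun ξ => by
    obtain ⟨b, hb⟩ := hpt ξ
    obtain ⟨e⟩ := hstab ξ _ (iso_triv_of_point ξ b hb)
    exact Finite.of_equiv _ e.symm
  refine ⟨Finite.of_surjective q hq.2, hfin, ?_⟩
  letI := Fintype.ofFinite (MulAction.orbitRel.Quotient (T ⟶ G) (T ⟶ X))
  letI := Fintype.ofFinite (T ⟶ G)
  rw [← finsum_comp_equiv (Equiv.ofBijective q hq), finsum_eq_sum_of_fintype]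
  have key : ∀ o : MulAction.orbitRel.Quotient (T ⟶ G) (T ⟶ X),
      ((Nat.card (Aut (Equiv.ofBijective q hq o).out) : ℚ))⁻¹ =
        (Nat.card (MulAction.orbit (T ⟶ G) o.out) : ℚ) / (Nat.card (T ⟶ G) : ℚ) := by
    intro o
    have ho : (⟦trivF K G aX T o.out⟧ : Quotient (isIsomorphicSetoid ((QuotSt K G aX).p.Fiber T))) =
        ⟦(Equiv.ofBijective q hq o).out⟧ :=
      (congrArg q (Quotient.out_eq o)).trans (Quotient.out_eq (Equiv.ofBijective q hq o)).symm
    obtain ⟨e⟩ := hstab (Equiv.ofBijective q hq o).out o.out (Quotient.exact ho)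
    rw [Nat.card_congr e]
    have h := Nat.card_congr (MulAction.orbitProdStabilizerEquivGroup (T ⟶ G) o.out)
    rw [Nat.card_prod] at h
    rw [← h, Nat.cast_mul]
    have : (Nat.card (MulAction.orbit (T ⟶ G) o.out) : ℚ) ≠ 0 := by
      have : Nonempty (MulAction.orbit (T ⟶ G) o.out) := ⟨⟨_, MulAction.mem_orbit_self _⟩⟩
      exact Nat.cast_ne_zero.2 Nat.card_pos.ne'
    field_simp
  rw [Finset.sum_congr rfl fun o _ => key o, ← Finset.sum_div, ← Nat.cast_sum, ← Nat.card_sigma]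
  congr 2
  exact (Nat.card_congr (MulAction.selfEquivSigmaOrbits (T ⟶ G) (T ⟶ X))).symm

end Groth.Agent.StkMassLib
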