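import Mathlib.AlgebraicGeometry.Morphisms.FiniteType
import Mathlib.AlgebraicGeometry.Morphisms.QuasiCompact
import Mathlib.CategoryTheory.Comma.Over.Basic
import Mathlib.RingTheory.FiniteType

/-! Finitely many rational points over a finite field. -/

set_option autoImplicit false
universe u
open CategoryTheory AlgebraicGeometry

namespace Groth.Agent.StkMassLib

variable {k : Type u} [Field k] [Finite k]

theorem finite_homs_affine {A : CommRingCat.{u}} (s : CommRingCat.of k ⟶ A) (hs : s.hom.FiniteType) :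
    Finite {φ : A ⟶ CommRingCat.of k // s ≫ φ = 𝟙 _} := by
  letI : Algebra k A := s.hom.toAlgebra
  obtain ⟨T, hT⟩ := (show Algebra.FiniteType k A from hs).out
  refine Finite.of_injective (fun φ => fun t : T => φ.1.hom t.1) fun φ ψ h => ?_
  let f : {φ : A ⟶ CommRingCat.of k // s ≫ φ = 𝟙 _} → (A →ₐ[k] k) := fun φ =>
    { φ.1.hom with commutes' := fun c => congrArg (fun m => m c) φ.2 }
  have hfg : f φ = f ψ := AlgHom.ext_of_adjoin_eq_top hT fun t ht => congrFun h ⟨t, ht⟩
  exact Subtype.ext (CommRingCat.hom_ext (RingHom.ext fun a => congrArg (fun m => m a) hfg))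

theorem finite_pts (X : Over (Spec (CommRingCat.of k))) [LocallyOfFiniteType X.hom] [QuasiCompact X.hom] :
    Finite (Over.mk (𝟙 (Spec (CommRingCat.of k))) ⟶ X) := by
  classical
  haveI : CompactSpace X.left := QuasiCompact.compactSpace_of_compactSpace X.hom
  let 𝒰 := X.left.affineCover.finiteSubcover
  haveI : Finite 𝒰.I₀ := inferInstance
  haveI : ∀ i, IsAffine (𝒰.X i) := fun i => inferInstanceAs (IsAffine (X.left.affineCover.X _))
  let P : 𝒰.I₀ → Type u := fun i => {m : Spec (CommRingCat.of k) ⟶ 𝒰.X i // m ≫ 𝒰.f i ≫ X.hom = 𝟙 _}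
  have : ∀ i, Finite (P i) := fun i => by
    let e := (𝒰.X i).isoSpec
    obtain ⟨s, hs⟩ := Spec.map_surjective (e.inv ≫ 𝒰.f i ≫ X.hom)
    have hft : s.hom.FiniteType := by
      refine (HasRingHomProperty.Spec_iff (P := @LocallyOfFiniteType)).1 ?_
      rw [hs]
      infer_instance
    haveI := finite_homs_affine s hft
    let g : {φ : Γ(𝒰.X i, ⊤) ⟶ CommRingCat.of k // s ≫ φ = 𝟙 _} → P i := fun φ =>
      ⟨Spec.map φ.1 ≫ e.inv, by
        rw [Category.assoc, ← hs, ← Spec.map_comp, φ.2, Spec.map_id]⟩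
    refine Finite.of_surjective g fun m => ?_
    obtain ⟨φ, hφ⟩ := Spec.map_surjective (m.1 ≫ e.hom)
    refine ⟨⟨φ, Spec.map_injective ?_⟩, Subtype.ext ?_⟩
    · rw [Spec.map_comp, hφ, hs, Category.assoc, Iso.hom_inv_id_assoc, m.2, Spec.map_id]
    · show Spec.map φ ≫ e.inv = m.1
      rw [hφ, Category.assoc, Iso.hom_inv_id, Category.comp_id]
  let g : (Σ i, P i) → (Over.mk (𝟙 (Spec (CommRingCat.of k))) ⟶ X) := fun m =>
    Over.homMk (m.2.1 ≫ 𝒰.f m.1) ((Category.assoc _ _ _).trans m.2.2)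
  refine Finite.of_surjective g fun p => ?_
  let z : Spec (CommRingCat.of k) := IsLocalRing.closedPoint k
  obtain ⟨i, y, hy⟩ := Scheme.Cover.exists_eq 𝒰 (p.left.base z)
  have hr : Set.range p.left.base ⊆ Set.range (𝒰.f i).base := by
    rintro _ ⟨w, rfl⟩
    exact ⟨y, hy.trans (congrArg _ (Subsingleton.elim _ _))⟩
  refine ⟨⟨i, IsOpenImmersion.lift (𝒰.f i) p.left hr, ?_⟩, Over.OverMorphism.ext (IsOpenImmersion.lift_fac _ _ _)⟩
  rw [IsOpenImmersion.lift_fac_assoc]
  exact Over.w p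

end Groth.Agent.StkMassLib
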